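import Cfsg.Agent.Lib.TS.Tab

/-!
# Programs for a group of order `3 ^ 10`

`ml`, `iv`, `cm`, `cu`, `cj` compute codes of products, inverses, commutators, cubes and conjugates.
-/

set_option autoImplicit false
set_option maxRecDepth 1000000
set_option maxHeartbeats 0
set_option Elab.async false

namespace Cfsg.Lib.TS

open Cfsg.Lib.Calc

/-- A row of the table of products of coset representatives. -/
noncomputable def rM (h : ℕ) : ℕ := Nat.land (Nat.shiftRight tM (Nat.mul h (nat_lit 3888))) (msk (nat_lit 3888))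
/-- A row of the table of the action on the normal subgroup. -/
noncomputable def rA (h : ℕ) : ℕ := Nat.land (Nat.shiftRight tA (Nat.mul h (nat_lit 1944))) (msk (nat_lit 1944))
/-- A row of the addition table of the normal subgroup. -/
noncomputable def rD (h : ℕ) : ℕ := Nat.land (Nat.shiftRight tD (Nat.mul h (nat_lit 1944))) (msk (nat_lit 1944))
/-- The code of the product of two coset representatives. -/
noncomputable def eM (h k : ℕ) : ℕ :=
  forceN h fun h => Nat.land (Nat.shiftRight (rM h) (Nat.shiftLeft k (nat_lit 4))) (nat_lit 65535)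
/-- The conjugate of `243 * k` by the representative `h`. -/
noncomputable def eA (h k : ℕ) : ℕ :=
  forceN h fun h => Nat.land (Nat.shiftRight (rA h) (Nat.shiftLeft k (nat_lit 3))) (nat_lit 255)
/-- The sum in the normal subgroup. -/
noncomputable def eD (h k : ℕ) : ℕ :=
  forceN h fun h => Nat.land (Nat.shiftRight (rD h) (Nat.shiftLeft k (nat_lit 3))) (nat_lit 255)
/-- The upper five digits. -/
def up (c : ℕ) : ℕ := Nat.mod (Nat.div c (nat_lit 243)) (nat_lit 243)
/-- The lower five digits. -/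
def dn (c : ℕ) : ℕ := Nat.mod c (nat_lit 243)
/-- Auxiliary. -/
noncomputable def ml2 (c d k m : ℕ) : ℕ :=
  Nat.add (Nat.mul (nat_lit 243) (eD (eD (Nat.div m (nat_lit 243)) (eA k (up c))) (up d))) (dn m)
/-- Product. -/
noncomputable def ml (c d : ℕ) : ℕ := ml2 c d (dn d) (eM (dn c) (dn d))
/-- Inverse. -/
noncomputable def iv (c : ℕ) : ℕ := ml (Nat.mul (nat_lit 243) (eD (up c) (up c))) (get (nat_lit 16) tI (dn c))
/-- Commutator `a b a⁻¹ b⁻¹`. -/
noncomputable def cm (a b : ℕ) : ℕ := forceN (ml b a) fun x => forceN (iv x) fun y => ml (ml a b) y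
/-- Cube. -/
noncomputable def cu (a : ℕ) : ℕ := ml a (ml a a)
/-- Conjugate `s x s⁻¹`. -/
noncomputable def cj (s x : ℕ) : ℕ := ml (ml s x) (iv s)
/-- Powers of three. -/
def p3 (i : ℕ) : ℕ := Nat.pow (nat_lit 3) i
/-- Ternary digits. -/
def dg (c i : ℕ) : ℕ := Nat.mod (Nat.div c (p3 i)) (nat_lit 3)

theorem p3_eq (i : ℕ) : p3 i = 3 ^ i := rfl
theorem dg_eq (c i : ℕ) : dg c i = c / 3 ^ i % 3 := rfl
theorem up_eq (c : ℕ) : up c = c / 243 % 243 := rfl
theorem dn_eq (c : ℕ) : dn c = c % 243 := rfl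
theorem ml_eq (c d : ℕ) :
    ml c d = 243 * eD (eD (eM (dn c) (dn d) / 243) (eA (dn d) (up c))) (up d) + dn (eM (dn c) (dn d)) := rfl

/-- The codes of the cubes of the generators. -/
def rP (k : ℕ) : ℕ := [4374, 0, 45927, 19683].getD k 0
/-- The code of `(g k)⁻¹ * g j * g k` for `k < j`. -/
def rR (k j : ℕ) : ℕ :=
  ([[0, 10488, 21933, 6588, 81, 44712, 2916, 2187, 26244, 19683],
    [0, 0, 22365, 20439, 13689, 33048, 729, 48114, 6561, 19683],
    [0, 0, 0, 41580, 54027, 19926, 33534, 21870, 6561, 19683],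
    [0, 0, 0, 0, 2268, 33048, 40095, 2187, 6561, 19683],
    [0, 0, 0, 0, 0, 19926, 729, 2187, 6561, 19683]].getD k []).getD j (3 ^ j)

/-- Digitwise addition. -/
def ad (u v : ℕ) : ℕ :=
  (u + v) % 3 + 3 * ((u / 3 + v / 3) % 3) + 9 * ((u / 9 + v / 9) % 3) + 27 * ((u / 27 + v / 27) % 3) +
    81 * ((u / 81 + v / 81) % 3)

theorem chkD : allLt 243 (fun u => allLt 243 fun v => Nat.beq (eD u v) (ad u v)) = true := by decide +kernel
theorem chkB : allLt 243 (fun h => allLt 243 fun k => band (blt (eM h k) 59049) (blt (eA h k) 243)) = true := by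
  decide +kernel
theorem chk0 : allLt 243 (fun h => band (Nat.beq (eM h 0) h) (Nat.beq (eA 0 h) h)) = true := by decide +kernel
/-- The action of a generator: the top digit of the argument is lowered. -/
theorem chkA : allLt 5 (fun k => band (Nat.beq (eA (p3 k) 0) 0) (allLt 5 fun j => band (Nat.beq (dn (rR k (5 + j))) 0)
    (allLt (2 * p3 j) fun a => Nat.beq (eA (p3 k) (a + p3 j)) (eD (eA (p3 k) a) (up (rR k (5 + j))))))) = true := by
  decide +kernel
/-- Right multiplication by a generator. -/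
theorem chkG : allLt 5 (fun k => band (allLt (2 * p3 k) fun a => Nat.beq (eM a (p3 k)) (a + p3 k))
    (band (allLt (p3 k) fun a => Nat.beq (eM (a + 2 * p3 k) (p3 k)) (a + rP k))
      (allFrom (k + 1) (4 - k) fun j => allLt (2 * p3 j) fun a =>
        Nat.beq (eM (a + p3 j) (p3 k)) (ml (eM a (p3 k)) (rR k j))))) = true := by
  decide +kernel
/-- The lowest digit of the second factor is lowered: `c = 3 ^ k * b` and `c + 3 ^ k`. -/
theorem chkM : allLt 5 (fun k => allLt (p3 (5 - k)) fun b => bor (Nat.beq (b % 3) 2) (forceB (p3 k * b) fun c =>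
    allLt 243 fun h => band (Nat.beq (eM h (c + p3 k)) (ml (eM h (p3 k)) c))
      (Nat.beq (eA (c + p3 k) h) (eA c (eA (p3 k) h))))) = true := by
  decide +kernel
theorem chkI : allLt 243 (fun h => band (Nat.beq (ml h (get 16 tI h)) 0) (Nat.beq (eD (eD h h) h) 0)) = true := by
  decide +kernel
theorem chkR : allLt 10 (fun k => band (Nat.beq (rP k % p3 (k + 1)) 0) (allFrom (k + 1) (9 - k) fun j =>
    Nat.beq (rR k j % p3 (j + 1)) (p3 j))) = true := by
  decide +kernel

end Cfsg.Lib.TS
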